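import Groth.Agent.CohLin.Basic
import Groth.Agent.QCoh.Exact
import Groth.Agent.QCoh.Qcqs
import Mathlib.AlgebraicGeometry.QuasiAffine
import Mathlib.RingTheory.Ideal.AssociatedPrime.Finiteness
import Mathlib.RingTheory.Nakayama
import Mathlib.RingTheory.Polynomial.Basic
import Mathlib.LinearAlgebra.Matrix.Charpoly.LinearMap
import Groth.Prelude.Def_CohB1

/-!
# An acyclic module with full support and finite sections forces affineness
-/

set_option autoImplicit false

universe u

open CategoryTheory Limits AlgebraicGeometry Opposite TopologicalSpace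

noncomputable section

namespace Groth.Agent.AcyclicQA

open Groth.Agent.QCoh

/-- Multiplication by a global function. -/
def smulMod {X : Scheme.{u}} (M : X.Modules) (r : Γ(X, ⊤)) : M ⟶ M :=
  ⟨{ app := fun U => ModuleCat.ofHom
      { toFun := fun m => Coh.resTop X U r • m
        map_add' := fun m m' => smul_add _ m m'
        map_smul' := fun s m => by
          rw [RingHom.id_apply, smul_smul, smul_smul]
          exact congrArg (· • m) (mul_comm (show Γ(X, U.unop) from Coh.resTop X U r) (show Γ(X, U.unop) from s)) }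
     naturality := fun {U V} i => by
        refine ModuleCat.hom_ext (LinearMap.ext fun m => ?_)
        change Coh.resTop X V r • (M.val.map i).hom m = (M.val.map i).hom (Coh.resTop X U r • m)
        rw [← Coh.resTop_comp U V i r]
        exact (M.val.map_smul i (Coh.resTop X U r) m).symm }⟩

lemma smulMod_app {X : Scheme.{u}} (M : X.Modules) (r : Γ(X, ⊤)) (U : X.Opens) (m : Γ(M, U)) :
    (smulMod M r).app U m = QCoh.rres (le_top : U ≤ ⊤) r • m := rfl

variable {V : Scheme.{u}} [V.IsQuasiAffine] (K : V.Modules) [K.IsQuasicoherent]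

omit [K.IsQuasicoherent] in
lemma eq_zero_of_basicOpen {W : V.Opens} (s : Γ(K, W))
    (h : ∀ t : Γ(V, ⊤), ∀ ht : V.basicOpen t ≤ W, res K ht s = 0) : s = 0 := by
  have hb := Scheme.IsQuasiAffine.isBasis_basicOpen V
  refine eq_zero_of_locally_eq_zero K (U := fun t : {t : Γ(V, ⊤) // V.basicOpen t ≤ W} => V.basicOpen t.1)
    (fun t => t.2) (fun x hx => ?_) s (fun t => h t.1 t.2)
  obtain ⟨_, ⟨_, ⟨t, -, rfl⟩, rfl⟩, hxt, ht⟩ := hb.exists_subset_of_mem_open hx W.2
  exact Opens.mem_iSup.2 ⟨⟨t, ht⟩, hxt⟩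

/-- A global function killing all global sections kills all sections. -/
lemma smul_eq_zero_of_global {b : Γ(V, ⊤)} (hb : ∀ m : Γ(K, ⊤), b • m = 0) {W : V.Opens}
    (s : Γ(K, W)) : (rres le_top b : Γ(V, W)) • s = 0 := by
  refine eq_zero_of_basicOpen K _ fun t ht => ?_
  obtain ⟨n, m, hm⟩ := (isLocalizingAt_of_isCompact K (U := ⊤) isCompact_univ t).surj (res K ht s)
  have hu : IsUnit ((rres (V.basicOpen_le t) t : Γ(V, V.basicOpen t)) ^ n) :=
    (RingedSpace.isUnit_res_basicOpen _ t).pow n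
  rw [res_smul, rres_rres, ← hu.smul_eq_zero, smul_comm, ← hm, ← res_smul, hb, map_zero]

/-- A global function regular on global sections is regular on all sections. -/
lemma injective_smulMod {b : Γ(V, ⊤)} (hb : ∀ m : Γ(K, ⊤), b • m = 0 → m = 0) (W : V.Opens) :
    Function.Injective ((smulMod K b).app W) := by
  refine (injective_iff_map_eq_zero _).2 fun s hs => eq_zero_of_basicOpen K s fun t ht => ?_
  rw [smulMod_app] at hs
  have hs' : (rres le_top b : Γ(V, V.basicOpen t)) • res K ht s = 0 := by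
    rw [← rres_rres (le_top : W ≤ ⊤) ht, ← res_smul, hs, map_zero]
  obtain ⟨n, m, hm⟩ := (isLocalizingAt_of_isCompact K (U := ⊤) isCompact_univ t).surj (res K ht s)
  obtain ⟨k, hk⟩ := (isLocalizingAt_of_isCompact K (U := ⊤) isCompact_univ t).eq_zero (b • m) (by
    rw [res_smul, hm, smul_comm, hs', smul_zero])
  have h1 : t ^ k • m = 0 := hb _ (by rw [smul_comm, hk])
  have h2 := congrArg (res K (V.basicOpen_le t)) h1
  rw [res_smul, hm, map_pow, smul_smul, map_zero] at h2
  have hu : IsUnit (rres (V.basicOpen_le t) t : Γ(V, V.basicOpen t)) :=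
    RingedSpace.isUnit_res_basicOpen _ t
  exact ((hu.pow k).mul (hu.pow n)).smul_eq_zero.1 h2

variable {A : Type u} [CommRing A] [IsNoetherianRing A] (φ : A →+* Γ(V, ⊤))

/-- A function killing all sections of a module with full support is nilpotent. -/
lemma isNilpotent_of_kills (hsupp : CohB1.support K = Set.univ) {b : Γ(V, ⊤)}
    (hb : ∀ m : Γ(K, ⊤), b • m = 0) : IsNilpotent b := by
  refine (Scheme.isNilpotent_iff_basicOpen_eq_bot b).2 (eq_bot_iff.2 fun y hy => ?_)
  have : y ∈ CohB1.support K := hsupp ▸ Set.mem_univ y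
  refine absurd (subsingleton_of_forall_eq 0 fun e => ?_) this
  obtain ⟨W, hyW, s, rfl⟩ := TopCat.Presheaf.exists_germ_eq K.presheaf e
  have h1 := smul_eq_zero_of_global K hb (res K (inf_le_left : W ⊓ V.basicOpen b ≤ W) s)
  have hu : IsUnit (rres (le_top : W ⊓ V.basicOpen b ≤ ⊤) b : Γ(V, W ⊓ V.basicOpen b)) := by
    rw [← rres_rres (V.basicOpen_le b) (inf_le_right : W ⊓ V.basicOpen b ≤ _)]
    exact (RingedSpace.isUnit_res_basicOpen _ b).map _
  rw [hu.smul_eq_zero] at h1
  rw [← K.presheaf.germ_res_apply (homOfLE (inf_le_left : W ⊓ V.basicOpen b ≤ W)) y (show y ∈ W ⊓ V.basicOpen b from ⟨hyW, hy⟩) s]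
  exact (congrArg (K.presheaf.germ _ y (show y ∈ W ⊓ V.basicOpen b from ⟨hyW, hy⟩)) h1).trans (map_zero _)

omit [V.IsQuasiAffine] [K.IsQuasicoherent] in
lemma compHom_smul {P : Type u} [CommRing P] (ρ : P →+* Γ(V, ⊤)) {Q : V.Modules} (a : P) (y : Γ(Q, ⊤)) :
    (letI := Module.compHom Γ(Q, ⊤) ρ; a • y) = ρ a • y := rfl

omit [V.IsQuasiAffine] [K.IsQuasicoherent] [IsNoetherianRing A] in
lemma finite_compHom {P : Type u} [CommRing P] (α : A →+* P) (ρ : P →+* Γ(V, ⊤)) (h : ρ.comp α = φ)
    (hfin : letI := Module.compHom Γ(K, ⊤) φ; Module.Finite A Γ(K, ⊤)) :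
    letI := Module.compHom Γ(K, ⊤) ρ; Module.Finite P Γ(K, ⊤) := by
  subst h
  letI := α.toAlgebra
  letI mA : Module A Γ(K, ⊤) := Module.compHom _ (ρ.comp α)
  letI mP : Module P Γ(K, ⊤) := Module.compHom _ ρ
  haveI : Module.Finite A Γ(K, ⊤) := hfin
  haveI : IsScalarTower A P Γ(K, ⊤) := IsScalarTower.of_algebraMap_smul fun _ _ => rfl
  exact Module.Finite.of_restrictScalars_finite A P _

lemma surjective_app_of_surjective_H {C : Type u} [SmallCategory C] {J : GrothendieckTopology C}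
    [HasExt.{u} (Sheaf J AddCommGrpCat.{u})] {T : C} (hT : IsTerminal T) {F G : Sheaf J AddCommGrpCat.{u}}
    (φ : F ⟶ G) (h : Function.Surjective (Sheaf.H.map φ 0)) : Function.Surjective (φ.hom.app (op T)) :=
  fun z => by
    obtain ⟨y, hy⟩ := h ((Sheaf.H.equiv₀ G hT).symm z)
    refine ⟨Sheaf.H.equiv₀ F hT y, ?_⟩
    have h2 := Sheaf.H.equiv₀_naturality (hT := hT) (f := φ) y
    rw [hy] at h2
    exact Eq.trans h2 ((Sheaf.H.equiv₀ G hT).apply_symm_apply z)

omit [V.IsQuasiAffine] in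
lemma app_top_surjective {S : ShortComplex V.Modules} (hS : S.ShortExact)
    (h1 : Subsingleton (Coh.HH V S.X₁ (0 + 1))) : Function.Surjective (S.g.app ⊤) :=
  surjective_app_of_surjective_H isTerminalTop (CohLin.abMap S.g)
    fun x => CohLin.exists_hMap_g_eq hS x (Subsingleton.elim _ _)

/-- Some `c ≡ 1` modulo `I` kills the sections of an acyclic module. -/
theorem exists_kills {P : Type u} [CommRing P] [IsNoetherianRing P] (ρ : P →+* Γ(V, ⊤)) (I : Ideal P)
    (hsep : ∀ (Q : V.Modules) (y : Γ(Q, ⊤)), (∀ a ∈ I, ρ a • y = 0) → y = 0)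
    (hvan : ∀ n, Subsingleton (Coh.HH V K (n + 1)))
    (hfin : letI := Module.compHom Γ(K, ⊤) ρ; Module.Finite P Γ(K, ⊤)) :
    ∃ c : P, c - 1 ∈ I ∧ ∀ m : Γ(K, ⊤), ρ c • m = 0 := by
  letI mP : ∀ Q : V.Modules, Module P Γ(Q, ⊤) := fun Q => Module.compHom _ ρ
  haveI : Module.Finite P Γ(K, ⊤) := hfin
  -- the inductive statement
  have main : ∀ (N : Submodule P Γ(K, ⊤)) (Q : V.Modules), Q.IsQuasicoherent →
      (∀ n, Subsingleton (Coh.HH V Q (n + 1))) →
      ∀ q : Γ(K, ⊤) →ₗ[P] Γ(Q, ⊤), Function.Surjective q → LinearMap.ker q = N →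
        (⊤ : Submodule P Γ(Q, ⊤)) ≤ I • ⊤ := by
    intro N
    induction N using WellFoundedGT.induction with
    | _ N ih =>
    intro Q hQ hQv q hq hN
    by_cases htriv : ∀ y : Γ(Q, ⊤), y = 0
    · exact fun y _ => by rw [htriv y]; exact zero_mem _
    haveI : Module.Finite P Γ(Q, ⊤) := Module.Finite.of_surjective q hq
    obtain ⟨a, haI, ha⟩ : ∃ a ∈ I, ∀ y : Γ(Q, ⊤), a • y = 0 → y = 0 := by
      by_contra h
      push Not at h
      have hsub : (I : Set P) ⊆ ⋃ p ∈ associatedPrimes P Γ(Q, ⊤), (id p : Ideal P) := by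
        intro a ha
        simp only [id]
        rw [biUnion_associatedPrimes_eq_zero_divisors]
        obtain ⟨y, hy, hy0⟩ := h a ha
        exact ⟨y, hy0, hy⟩
      obtain ⟨p, hp, hIp⟩ := (Ideal.subset_union_prime_finite
        (associatedPrimes.finite P Γ(Q, ⊤)) 0 0 fun p hp _ _ => hp.1).1 hsub
      rw [AssociatedPrimes.mem_iff, isAssociatedPrime_iff] at hp
      obtain ⟨hpp, y, hy⟩ := hp
      have hy0 : y = 0 := hsep Q y fun a ha => by
        have := hIp ha
        rw [hy, Submodule.mem_colon_singleton, Submodule.mem_bot] at this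
        exact (compHom_smul ρ a y).symm.trans this
      exact hpp.ne_top (by rw [hy, hy0]; ext; simp)
    haveI := hQ
    haveI : Mono (smulMod Q (ρ a)) :=
      Preadditive.mono_of_cancel_zero _ fun {Z} k hk => Scheme.Modules.hom_ext _ _ fun W => by
        ext x
        exact injective_smulMod Q ha W (Eq.trans congr($(congrArg (fun b => Scheme.Modules.Hom.app b W) hk) x)
          (map_zero _).symm)
    let S := ShortComplex.mk (smulMod Q (ρ a)) (cokernel.π _) (cokernel.condition _)
    have hS : S.ShortExact :=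
      { exact := ShortComplex.exact_cokernel _
        mono_f := inferInstanceAs (Mono (smulMod Q (ρ a)))
        epi_g := inferInstanceAs (Epi (cokernel.π _)) }
    haveI : Subsingleton (Coh.HH V S.X₁ (0 + 1)) := hQv 0
    have hv3 : ∀ n, Subsingleton (Coh.HH V S.X₃ (n + 1)) := fun n => by
      haveI : Subsingleton (Coh.HH V S.X₂ (n + 1)) := hQv n
      haveI : Subsingleton (Coh.HH V S.X₁ (n + 1 + 1)) := hQv (n + 1)
      exact CohLin.subsingleton_X₃ hS
    let π : Γ(Q, ⊤) →ₗ[P] Γ(S.X₃, ⊤) :=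
      { toFun := fun y => S.g.app ⊤ y
        map_add' := fun _ _ => map_add _ _ _
        map_smul' := fun c y => Scheme.Modules.Hom.app_smul S.g (ρ c) y }
    have hπ : Function.Surjective π := app_top_surjective hS inferInstance
    have hπa : ∀ y, π (a • y) = 0 := fun y => by
      have h := app_app_eq_zero S ⊤ y
      refine Eq.trans (congrArg (S.g.app ⊤) ?_) h
      rw [show S.f = smulMod Q (ρ a) from rfl]
      refine Eq.trans ?_ (smulMod_app Q (ρ a) ⊤ y).symm
      rw [rres_self]; rfl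
    haveI : S.X₃.IsQuasicoherent :=
      inferInstanceAs (cokernel (smulMod Q (ρ a))).IsQuasicoherent
    have hlt : N < LinearMap.ker (π.comp q) := by
      refine lt_of_le_of_ne (fun m hm => ?_) fun heq => htriv fun y => ?_
      · rw [← hN, LinearMap.mem_ker] at hm
        rw [LinearMap.mem_ker, LinearMap.comp_apply, hm, map_zero]
      · obtain ⟨m, rfl⟩ := hq y
        have : a • m ∈ N := heq ▸ LinearMap.mem_ker.2 (by
          rw [LinearMap.comp_apply, map_smul, hπa])
        rw [← hN, LinearMap.mem_ker, map_smul] at this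
        exact ha _ this
    have h3 := ih _ hlt S.X₃ inferInstance hv3 (π.comp q) (hπ.comp hq) rfl
    intro y _
    have hy : π y ∈ Submodule.map π (I • ⊤) := by
      rw [Submodule.map_smul'', Submodule.map_top, LinearMap.range_eq_top.2 hπ]
      exact h3 Submodule.mem_top
    obtain ⟨y', hy', he⟩ := hy
    obtain ⟨w, hw⟩ := exists_app_eq_of_app_eq_zero S hS.exact ⊤ (y - y') (by
      show π (y - y') = 0
      rw [map_sub, he, sub_self])
    have hw' : a • w = y - y' := Eq.trans (Eq.trans (by rw [rres_self]; rfl) (smulMod_app Q (ρ a) ⊤ w).symm) hw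
    rw [← sub_add_cancel y y', ← hw']
    exact add_mem (Submodule.smul_mem_smul haI Submodule.mem_top) hy'
  obtain ⟨c, hc1, hc⟩ := Submodule.exists_sub_one_mem_and_smul_eq_zero_of_fg_of_le_smul I ⊤
    Module.Finite.fg_top (main _ K inferInstance hvan LinearMap.id Function.surjective_id rfl)
  exact ⟨c, hc1, fun m => (compHom_smul ρ c m).symm.trans (hc m Submodule.mem_top)⟩

theorem isAffine_and_isIntegral (hsupp : CohB1.support K = Set.univ)
    (hvan : ∀ n, Subsingleton (Coh.HH V K (n + 1)))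
    (hfin : letI := Module.compHom Γ(K, ⊤) φ; Module.Finite A Γ(K, ⊤)) :
    IsAffine V ∧ φ.IsIntegral := by
  classical
  let T := {t : Γ(V, ⊤) // IsAffineOpen (V.basicOpen t)}
  obtain ⟨F, hF⟩ := isCompact_univ.elim_finite_subcover (fun t : T => (V.basicOpen t.1 : Set V))
    (fun t => (V.basicOpen t.1).2) fun x _ => by
      obtain ⟨_, ⟨_, ⟨t, ht, rfl⟩, rfl⟩, hxt, -⟩ :=
        (Scheme.IsQuasiAffine.isBasis_basicOpen V).exists_subset_of_mem_open (Set.mem_univ x) isOpen_univ
      exact Set.mem_iUnion.2 ⟨⟨t, ht⟩, hxt⟩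
  let g : F → Γ(V, ⊤) := fun i => i.1.1
  let P := MvPolynomial F A
  let ρ : P →+* Γ(V, ⊤) := MvPolynomial.eval₂Hom φ g
  letI mA : Module A Γ(K, ⊤) := Module.compHom _ φ
  haveI : Module.Finite A Γ(K, ⊤) := hfin
  obtain ⟨c, hc1, hc⟩ := exists_kills K ρ (Ideal.span (Set.range MvPolynomial.X)) (fun Q y hy => by
      refine eq_zero_of_locally_eq_zero Q (U := fun i : F => V.basicOpen (g i)) (fun i => le_top)
        (fun x _ => ?_) y fun i => ?_
      · obtain ⟨t, ht, hxt⟩ := Set.mem_iUnion₂.1 (hF (Set.mem_univ x))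
        exact Opens.mem_iSup.2 ⟨⟨t, ht⟩, hxt⟩
      · have h1 := hy _ (Ideal.subset_span ⟨i, rfl⟩)
        rw [show ρ (MvPolynomial.X i) = g i from MvPolynomial.eval₂Hom_X' φ g i] at h1
        have h2 := congrArg (res Q (V.basicOpen_le (g i))) h1
        rw [res_smul, map_zero] at h2
        have hu : IsUnit (rres (V.basicOpen_le (g i)) (g i) : Γ(V, V.basicOpen (g i))) :=
          RingedSpace.isUnit_res_basicOpen _ (g i)
        exact hu.smul_eq_zero.1 h2)
    hvan (finite_compHom K φ MvPolynomial.C ρ (RingHom.ext (MvPolynomial.eval₂Hom_C φ g)) hfin)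
  have hnil : IsNilpotent (ρ c) := isNilpotent_of_kills K hsupp hc
  have htop : Ideal.span (Set.range g) = ⊤ := by
    refine Ideal.eq_top_of_isUnit_mem _ ?_ hnil.isUnit_sub_one
    have h1 := Ideal.mem_map_of_mem ρ hc1
    rw [map_sub, map_one, Ideal.map_span, ← Set.range_comp] at h1
    rwa [show ρ ∘ MvPolynomial.X = g from funext (MvPolynomial.eval₂Hom_X' φ g)] at h1
  refine ⟨isAffine_of_isAffineOpen_basicOpen _ htop ?_, fun x => ?_⟩
  · rintro _ ⟨i, rfl⟩
    exact i.1.2
  letI := φ.toAlgebra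
  haveI : IsScalarTower A Γ(V, ⊤) Γ(K, ⊤) := IsScalarTower.of_algebraMap_smul fun _ _ => rfl
  obtain ⟨p, hp, hp0⟩ := LinearMap.exists_monic_and_aeval_eq_zero A
    (Algebra.lsmul A A Γ(K, ⊤) x)
  rw [Polynomial.aeval_algHom_apply] at hp0
  obtain ⟨n, hn⟩ := isNilpotent_of_kills K hsupp (b := Polynomial.aeval x p) fun m =>
    LinearMap.congr_fun hp0 m
  refine ⟨p ^ n, hp.pow n, ?_⟩
  show Polynomial.aeval x (p ^ n) = 0
  rw [map_pow, hn]

end Groth.Agent.AcyclicQA

end
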